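import Cfsg.Agent.StdW.EndD

/-!
# Standard subgroups with one class of involutions: the order of a Sylow 2-subgroup
-/

set_option autoImplicit false

namespace Cfsg.Lib.StdW

open Subgroup Cfsg.Lib.Gold Cfsg.Lib.Trans Cfsg.Lib.StdSz
open scoped commutatorElement

variable {G Ω : Type*} [Group G] [Group Ω] {Γ Γ0 T : Subgroup Ω} {z : Ω}
  {A O B : Subgroup G} {ρ ρ' : G → Ω} {t : G}

theorem comm_symm {B B' : Subgroup G} (hc : B ≤ Cs B') : B' ≤ Cs B := fun x hx =>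
  StdJ4.mem_Cs.2 fun _ hy => (StdJ4.mem_Cs.1 (hc hy) x hx).symm

theorem O_le (s : St A O t) (D : Dbl A O B t) : O ≤ Cs B ⊓ Cs (cj t B) := fun x hx => by
  have h1 : x ∈ Cs B := comm_symm D.cO hx
  refine mem_inf.2 ⟨h1, ?_⟩
  rw [← StdJ4.cj_Cs, mem_cj_t s.tt, ← (StdJ4.mem_C1.1 (s.Ole hx).2).eq]
  simpa using h1

/-- an element of odd order inverted by `t` -/
theorem conj_of_odd {c : G} (h1 : Odd (orderOf c)) (h2 : t * c * t⁻¹ = c⁻¹) :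
    ∃ i : ℕ, c ^ i * t * (c ^ i)⁻¹ = c * t := by
  obtain ⟨j, hj⟩ := h1
  refine ⟨j + 1, ?_⟩
  have e : t * (c ^ (j + 1))⁻¹ * t⁻¹ = c ^ (j + 1) := by
    rw [← inv_pow, ← conj_pow, show t * c⁻¹ * t⁻¹ = (t * c * t⁻¹)⁻¹ by group, h2, inv_inv]
  calc c ^ (j + 1) * t * (c ^ (j + 1))⁻¹ = c ^ (j + 1) * (t * (c ^ (j + 1))⁻¹ * t⁻¹) * t := by group
    _ = c ^ (2 * j + 1) * c * t := by rw [e]; group
    _ = c * t := by rw [← hj, pow_orderOf_eq_one, one_mul]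

variable [Finite G] [Finite Ω]

section EndB

variable (b : Base Γ Γ0 T z) (o : Out Γ Γ0) (h : Mdl Γ Γ0 A ρ) (s : St A O t) (D : Dbl A O B t)
  (m : Mdl Γ Γ0 B ρ')
include b o h s D m

variable {X : Subgroup G} [X.Normal] [IsSimpleGroup X] (hAX : A ≤ X)
include hAX

theorem mem_O {k : G} (h1 : k ∈ Cs A) (h2 : k ∈ X ⊓ C1 t) : k ∈ O := by
  refine (s.dec k ⟨h1, h2.2⟩).resolve_right ?_
  rintro ⟨c, hc, rfl⟩
  refine t_not_mem b o h s D m hAX (O_le s D hc) ?_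
  rw [(StdJ4.mem_C1.1 (s.Ole hc).2).eq]
  exact h2.1

/-- the centraliser of `t` in `X` is inner on both factors -/
theorem cent_le : X ⊓ C1 t ≤ Inn B ⊓ Inn (cj t B) := by
  have hAt : A ≤ X ⊓ C1 t := fun a ha =>
    mem_inf.2 ⟨hAX ha, StdJ4.mem_C1.2 (StdJ4.mem_Cs.1 s.tA a ha).symm⟩
  intro y hy
  have hyN := s.cN hy.2
  by_cases h0 : ρ y ∈ Γ0
  · obtain ⟨a, ha, h1⟩ := (h.inner hyN).1 h0
    have h2 := O_le s D (mem_O b o h s D m hAX h1 (mul_mem (inv_mem (hAt ha)) hy))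
    obtain ⟨x, hx, e⟩ := D.onto a ha
    have h3 : t * x * t⁻¹ ∈ cj t B := conj_mem_cj.2 hx
    rw [show y = x * (t * x * t⁻¹) * (a⁻¹ * y) by rw [← e]; group]
    exact mem_inf.2 ⟨mul_mem (mul_mem (le_Inn hx) (Cs_le_Inn (comm_symm D.comm h3))) (Cs_le_Inn h2.1),
      mul_mem (mul_mem (Cs_le_Inn (D.comm hx)) (le_Inn h3)) (Cs_le_Inn h2.2)⟩
  · exfalso
    obtain ⟨γ, hγ, e⟩ := o.inv _ (h.memΓ y hyN) h0
    obtain ⟨a, ha, rfl⟩ := h.surj γ hγ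
    have hw := mul_mem hy (hAt ha)
    have hwN := s.cN hw.2
    rw [← h.mul y hyN a (le_normalizer ha)] at e
    have h1 : y * a * (y * a) ∈ O := mem_O b o h s D m hAX
      ((h.ker _ (mul_mem hwN hwN)).1 (by rw [h.mul _ hwN _ hwN, e])) (mul_mem hw hw)
    obtain ⟨j, hj⟩ := odd_orderOf s.Oodd h1
    have h2 := no_outer b o h s D m hAX (pow_mem hw (2 * j + 1)) (by
      rw [← pow_add, ← two_mul, pow_mul, pow_two, ← hj, pow_orderOf_eq_one])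
    rw [h.pow hwN, pow_succ, pow_mul, pow_two, e, one_pow, one_mul,
      h.mul y hyN a (le_normalizer ha)] at h2
    exact h0 ((mul_mem_cancel_right hγ).1 h2)

theorem of_comm {y : G} (hy : y ∈ X) (h1 : ⁅y, t⁆ ∈ Inn B ⊓ Inn (cj t B)) :
    y ∈ Inn B ⊓ Inn (cj t B) := by
  have tt := s.tt
  obtain ⟨a, ha, a', ha', c, hc, e⟩ := dec_Inn D.comm h1.1 h1.2
  have hta : t * a * t⁻¹ ∈ cj t B := conj_mem_cj.2 ha
  have e1 : a⁻¹ * y * t * (a⁻¹ * y)⁻¹ = a' * (t * a * t⁻¹) * c * t := by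
    calc a⁻¹ * y * t * (a⁻¹ * y)⁻¹ = a⁻¹ * ⁅y, t⁆ * (t * a * t⁻¹) * t := by
          rw [commutatorElement_def]; group
      _ = a' * (c * (t * a * t⁻¹)) * t := by rw [e]; group
      _ = _ := by rw [(StdJ4.mem_Cs.1 hc.2 _ hta).eq]; group
  obtain ⟨d, hd, e2⟩ : ∃ d ∈ cj t B, a⁻¹ * y * t * (a⁻¹ * y)⁻¹ = d * c * t := ⟨_, mul_mem ha' hta, e1⟩
  have e3 : t * (d * c) * t⁻¹ = (d * c)⁻¹ := by
    rw [StdJ4.inv_of_sq tt, eq_inv_iff_mul_eq_one]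
    calc t * (d * c) * t * (d * c) = t * (d * c * t * (d * c * t)) * t⁻¹ := by group
      _ = t * (a⁻¹ * y * (t * t) * (a⁻¹ * y)⁻¹) * t⁻¹ := by rw [← e2]; group
      _ = 1 := by rw [tt]; group
  have hd1 : d ∈ Cs B := comm_symm D.comm hd
  have hd2 : d ∈ Cs (cj t B) := by
    rw [← StdJ4.cj_Cs, mem_cj_t tt,
      show t * d * t⁻¹ = t * (d * c) * t⁻¹ * (t * c * t⁻¹)⁻¹ by group, e3]
    exact mul_mem (inv_mem (mul_mem hd1 hc.1)) (inv_mem (conj_t_C tt hc).1)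
  have hdc : d * c ∈ Cs B ⊓ Cs (cj t B) := mul_mem (mem_inf.2 ⟨hd1, hd2⟩) hc
  have haX : a⁻¹ * y ∈ X := mul_mem (inv_mem (B_le b o h s D m hAX ha)) hy
  have hX : d * c ∈ X := by
    rw [show d * c = d * c * t * t⁻¹ by group, ← e2,
      show a⁻¹ * y * t * (a⁻¹ * y)⁻¹ * t⁻¹ = a⁻¹ * y * (t * (a⁻¹ * y)⁻¹ * t⁻¹) by group]
    exact mul_mem haX (Normal.conj_mem inferInstance _ (inv_mem haX) t)
  obtain ⟨i, hi⟩ := conj_of_odd (odd_orderOf (odd_CE b o h s D m) hdc) e3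
  have h5 := cent_le b o h s D m hAX (x := ((d * c) ^ i)⁻¹ * (a⁻¹ * y))
    (mem_inf.2 ⟨mul_mem (inv_mem (pow_mem hX i)) haX, StdJ4.mem_C1.2 (by
      show _ * _ = _ * _
      calc ((d * c) ^ i)⁻¹ * (a⁻¹ * y) * t
          = ((d * c) ^ i)⁻¹ * (a⁻¹ * y * t * (a⁻¹ * y)⁻¹) * (a⁻¹ * y) := by group
        _ = _ := by rw [e2, ← hi]; group)⟩)
  have h6 := pow_mem hdc i
  rw [show y = a * ((d * c) ^ i * (((d * c) ^ i)⁻¹ * (a⁻¹ * y))) by group]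
  exact mul_mem (mem_inf.2 ⟨le_Inn ha, Cs_le_Inn (D.comm ha)⟩)
    (mul_mem (mem_inf.2 ⟨Cs_le_Inn h6.1, Cs_le_Inn h6.2⟩) h5)

theorem syl_le {Q : Subgroup G} (hQ : Q ≤ X) (h2 : IsPGroup 2 Q) : Nat.card Q ≤ 2 ^ 14 := by
  obtain ⟨P, hP⟩ := exists_syl_t s.tt
  have hR := isSylowIn_inf_of_normal P X
  have h1 : (P : Subgroup G) ⊓ X ≤ Inn B ⊓ Inn (cj t B) := by
    by_contra hc
    obtain ⟨y, hy, h3, h4⟩ := Solv.PG.exists_not_mem_commutator_mem P.isPGroup'.isNilpotent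
      inf_le_left (fun g hg => mem_Ns_inf (le_normalizer hg) (mem_Ns_iff.2 (cj_eq_of_normal g X))) hc
    exact h3 (of_comm b o h s D m hAX hy.2 (h4 t hP).1)
  have key : ∀ {B : Subgroup G} {σ : G → Ω} (m : Mdl Γ Γ0 B σ) {R : Subgroup G}, IsPGroup 2 R →
      R ≤ Inn B → Nat.card R ≤ Nat.card ↥(R ⊓ Cs B) * 128 := by
    intro B σ m R hR h3
    rw [m.card_img (h3.trans Inn_le)]
    refine Nat.mul_le_mul_left _ (b.syl _ (fun γ hγ => ?_) (m.two_img hR))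
    obtain ⟨x, hx, hN, rfl⟩ := m.mem_img.1 hγ
    exact (m.inn hN).2 (h3 hx)
  have h3 := key m hR.isPGroup (h1.trans inf_le_left)
  have h4 := hR.isPGroup.to_le (inf_le_left (b := Cs B))
  have h5 := key (m.cjg t) h4 (inf_le_left.trans (h1.trans inf_le_right))
  have h6 : (P : Subgroup G) ⊓ X ⊓ Cs B ⊓ Cs (cj t B) = ⊥ := by
    rw [eq_bot_iff]
    intro x hx
    obtain ⟨k, hk⟩ := Comp.Tw.of_mem h4 hx.1
    have h7 := odd_orderOf (odd_CE b o h s D m) (mem_inf.2 ⟨hx.1.2, hx.2⟩)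
    exact orderOf_eq_one_iff.1 ((Nat.coprime_self _).1 ((Nat.Coprime.pow_right k
      (Nat.coprime_two_right.2 h7)).coprime_dvd_right (orderOf_dvd_of_pow_eq_one hk)))
  rw [h6, card_bot] at h5
  have := hR.card_le h2 hQ
  omega

end EndB

end Cfsg.Lib.StdW
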