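import Cfsg.Agent.StdW.EndA
import Cfsg.Agent.Comp.Tools

/-!
# Standard subgroups with one class of involutions: the stabiliser of the pair `{B, B^t}`
-/

set_option autoImplicit false

namespace Cfsg.Lib.StdW

open Subgroup Cfsg.Lib.Gold Cfsg.Lib.Trans Cfsg.Lib.StdSz
open scoped commutatorElement

variable {G Ω : Type*} [Group G] [Group Ω] [Finite G] [Finite Ω] {Γ Γ0 T : Subgroup Ω} {z : Ω}
  {A O B : Subgroup G} {ρ ρ' : G → Ω} {t : G}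

/-- the stabiliser of the pair `{B, B'}` -/
def MM (B B' : Subgroup G) : Subgroup G where
  carrier := {g | (cj g B = B ∧ cj g B' = B') ∨ (cj g B = B' ∧ cj g B' = B)}
  mul_mem' := by
    rintro a b (⟨a1, a2⟩ | ⟨a1, a2⟩) (⟨b1, b2⟩ | ⟨b1, b2⟩)
    · exact Or.inl ⟨by rw [cj_mul, b1, a1], by rw [cj_mul, b2, a2]⟩
    · exact Or.inr ⟨by rw [cj_mul, b1, a2], by rw [cj_mul, b2, a1]⟩
    · exact Or.inr ⟨by rw [cj_mul, b1, a1], by rw [cj_mul, b2, a2]⟩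
    · exact Or.inl ⟨by rw [cj_mul, b1, a2], by rw [cj_mul, b2, a1]⟩
  one_mem' := Or.inl ⟨cj_one B, cj_one B'⟩
  inv_mem' := by
    rintro a (⟨a1, a2⟩ | ⟨a1, a2⟩)
    · exact Or.inl ⟨(cj_eq_iff_eq_cj_inv.1 a1).symm, (cj_eq_iff_eq_cj_inv.1 a2).symm⟩
    · exact Or.inr ⟨(cj_eq_iff_eq_cj_inv.1 a2).symm, (cj_eq_iff_eq_cj_inv.1 a1).symm⟩

omit [Finite G] in
theorem MM_iff {B B' : Subgroup G} {g : G} :
    g ∈ MM B B' ↔ (cj g B = B ∧ cj g B' = B') ∨ (cj g B = B' ∧ cj g B' = B) := Iff.rfl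

omit [Finite G] in
theorem MM_idx {B B' : Subgroup G} {x y : G} (hx : x ∈ MM B B') (hy : y ∈ MM B B')
    (h1 : x ∉ Ns B ⊓ Ns B') (h2 : y ∉ Ns B ⊓ Ns B') : x * y ∈ Ns B ⊓ Ns B' := by
  have k : ∀ {x}, x ∈ MM B B' → x ∉ Ns B ⊓ Ns B' → cj x B = B' ∧ cj x B' = B := fun hx h =>
    (MM_iff.1 hx).resolve_left fun e => h ⟨cj_eq_self_iff.1 e.1, cj_eq_self_iff.1 e.2⟩
  obtain ⟨a1, a2⟩ := k hx h1
  obtain ⟨b1, b2⟩ := k hy h2
  exact ⟨cj_eq_self_iff.1 (by rw [cj_mul, b1, a2]), cj_eq_self_iff.1 (by rw [cj_mul, b2, a1])⟩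

omit [Finite G] in
theorem t_mem_MM (ht : t * t = 1) : t ∈ MM B (cj t B) := Or.inr ⟨rfl, StdJ4.cj_cj_self ht B⟩

theorem eb_card_le_two {Q C : Subgroup G} (hC : ∀ x ∈ Q, ∀ y ∈ Q, x ∉ C → y ∉ C → x * y ∈ C) :
    Nat.card Q ≤ 2 * Nat.card ↥(Q ⊓ C) := by
  rw [← card_mul_relIndex (inf_le_left : Q ⊓ C ≤ _), mul_comm, inf_relIndex_left]
  refine Nat.mul_le_mul_right _ ?_
  by_cases hc : Q ≤ C
  · rw [relIndex_eq_one.2 hc]; norm_num
  · obtain ⟨a, ha, hu⟩ := SetLike.not_le_iff_exists.1 hc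
    refine (index_eq_two_iff.2 ⟨⟨a, ha⟩, fun b => ?_⟩).le
    simp only [mem_subgroupOf, coe_mul]
    rw [Comp.mul_mem_iff_of_idx hC b.2 ha]
    unfold Xor
    tauto

theorem eb_two_le {Q C : Subgroup G} (h : C ≤ Q) {a : G} (ha : a ∈ Q) (hn : a ∉ C) :
    2 * Nat.card C ≤ Nat.card Q := by
  rw [← card_mul_relIndex h, mul_comm]
  refine Nat.mul_le_mul_left _ ?_
  have h0 : C.relIndex Q ≠ 0 := index_ne_zero_of_finite
  have h1 : C.relIndex Q ≠ 1 := fun e => hn (relIndex_eq_one.1 e ha)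
  omega

omit [Finite G] [Finite Ω] in
theorem Mdl.img_up (o : Out Γ Γ0) (m : Mdl Γ Γ0 B ρ') {u : G} (hu : u ∈ Ns B) (h2 : u * u = 1)
    (h0 : ρ' u ∉ Γ0) {R : Subgroup G} (hR : R ≤ Ns B) (hC : R ≤ C1 u) (h3 : IsPGroup 2 R) :
    Nat.card R ≤ Nat.card ↥(R ⊓ Cs B) * 32 := by
  rw [m.card_img hR]
  refine Nat.mul_le_mul_left _ (o.up _ (m.memΓ u hu) h0 (by rw [← m.mul u hu u hu, h2, m.one]) _
    (le_inf (m.img_le R) fun γ hγ => ?_) (m.two_img h3))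
  obtain ⟨x, hx, hx', rfl⟩ := m.mem_img.1 hγ
  exact StdSz.mem_C1.2 (m.commute hx' hu (StdSz.mem_C1.1 (hC hx)))

section EndB

variable (b : Base Γ Γ0 T z) (o : Out Γ Γ0) (h : Mdl Γ Γ0 A ρ) (s : St A O t) (D : Dbl A O B t)
  (m : Mdl Γ Γ0 B ρ')
include b o h s D m

theorem not_norm_cj (g : G) (h1 : t ∈ Ns (cj g B)) (h2 : t ∈ Ns (cj g (cj t B))) : False :=
  not_norm b o h s (m.cjg g) ((m.cjg t).cjg g) (by
    rw [← StdJ4.cj_Cs]; exact cj_mono g D.comm) h1 h2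

theorem t_not_M0 : t ∉ Ns B ⊓ Ns (cj t B) := fun e =>
  not_norm b o h s m (m.cjg t) D.comm e.1 e.2

theorem mem_MM {g : G} (hg : g * t * g⁻¹ ∈ MM B (cj t B)) : g ∈ MM B (cj t B) := by
  have e : ∀ Y : Subgroup G, cj t (cj g⁻¹ Y) = cj g⁻¹ (cj (g * t * g⁻¹) Y) := fun Y => by
    rw [cj_cj, cj_cj]; congr 1; group
  rcases hg with ⟨a1, a2⟩ | ⟨a1, -⟩
  · exact (not_norm_cj b o h s D m g⁻¹ (cj_eq_self_iff.1 (by rw [e, a1]))
      (cj_eq_self_iff.1 (by rw [e, a2]))).elim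
  have e1 : cj t (cj g⁻¹ B) = cj g⁻¹ (cj t B) := by rw [e, a1]
  refine (inv_mem_iff (H := MM B (cj t B))).1 ?_
  rcases swap_eq b h s D g⁻¹ m (by rw [e1, ← StdJ4.cj_Cs]; exact cj_mono _ D.comm) with k | k
  · exact Or.inl ⟨k, by rw [← e1, k]⟩
  · exact Or.inr ⟨k, by rw [← e1, k, StdJ4.cj_cj_self s.tt]⟩

theorem two_le_MM {Q : Subgroup G} (hQ : IsPGroup 2 Q) (ht : t ∈ Q) : Q ≤ MM B (cj t B) := by
  by_contra hn
  have : Q ⊓ MM B (cj t B) < Q := lt_of_le_of_ne inf_le_left fun e => hn (inf_eq_left.1 e)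
  obtain ⟨g, g1, g2⟩ := SetLike.exists_of_lt (lt_inf_normalizer hQ this)
  exact g2 ⟨g1.1, mem_MM b o h s D m (mem_normalizer_conj g1.2 ⟨ht, t_mem_MM s.tt⟩).2⟩

theorem odd_CE : Odd (Nat.card ↥(Cs B ⊓ Cs (cj t B))) := by
  by_contra hn
  obtain ⟨⟨c, hc⟩, c2⟩ := exists_prime_orderOf_dvd_card' 2
    (even_iff_two_dvd.1 (Nat.not_odd_iff_even.1 hn))
  rw [orderOf_mk] at c2
  have hN : t ∈ Ns (Cs B ⊓ Cs (cj t B)) := cj_eq_self_iff.1 (by
    rw [cj_inf, StdJ4.cj_Cs, StdJ4.cj_Cs, StdJ4.cj_cj_self s.tt, inf_comm])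
  obtain ⟨j, j1, j2, j3, j4⟩ := Comp.exists_fix_even (Comp.Tw.of_sq s.tt).isPGroup
    (zpowers_le.2 hN) hc (fun e => by simp [e] at c2)
    (Comp.Tw.of_sq (by rw [← sq, ← c2, pow_orderOf_eq_one]))
  have jt : Commute j t := StdSz.mem_Cs.1 j4 t (mem_zpowers t)
  have jA : j ∈ Cs A := StdSz.mem_Cs.2 fun a ha => by
    obtain ⟨x, hx, rfl⟩ := D.onto a ha
    exact (StdSz.mem_Cs.1 j1.1 x hx).mul_right (StdSz.mem_Cs.1 j1.2 _ (conj_mem_cj.2 hx))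
  rcases s.dec j ⟨jA, StdSz.mem_C1.2 jt⟩ with e | ⟨c, hc, e⟩
  · exact j2 (eq_one_of_sq_of_odd j3 (odd_orderOf s.Oodd e))
  · have : c = 1 := eq_one_of_sq_of_odd (by
      have ct : Commute c t := StdSz.mem_C1.1 (s.Ole hc).2
      rw [e, show t * c * (t * c) = t * (c * t) * c by group, ct.eq,
        show t * (t * c) * c = t * t * (c * c) by group, s.tt, one_mul] at j3
      exact j3) (odd_orderOf s.Oodd hc)
    rw [this, mul_one] at e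
    exact t_not_M0 b o h s D m ⟨StdJ4.Cs_le_Ns _ (e ▸ j1.1), StdJ4.Cs_le_Ns _ (e ▸ j1.2)⟩

variable {X : Subgroup G} [X.Normal] [IsSimpleGroup X] (hAX : A ≤ X)
include hAX

omit b o h s [Finite G] [Finite Ω] [IsSimpleGroup X] in
theorem B_le' : B ≤ X := by
  refine m.perf.trans (commutator_le.2 fun x hx y hy => ?_)
  have c : Commute x (t * y * t⁻¹) := StdSz.mem_Cs.1 (D.comm hx) _ (conj_mem_cj.2 hy)
  have k := hAX (D.diag y hy)
  have e : ⁅x, y⁆ = x * (y * (t * y * t⁻¹)) * x⁻¹ * (y * (t * y * t⁻¹))⁻¹ := by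
    generalize t * y * t⁻¹ = y' at c
    rw [commutatorElement_def, show x * (y * y') * x⁻¹ * (y * y')⁻¹ =
      x * y * (y' * x⁻¹ * y'⁻¹) * y⁻¹ by group, c.inv_left.symm.eq, mul_inv_cancel_right]
  rw [e]
  exact mul_mem (Normal.conj_mem inferInstance _ k x) (inv_mem k)

set_option linter.unusedVariables false in
set_option linter.unusedSectionVars false in
theorem B_le : B ≤ X := B_le' D m hAX

omit b o D m [Finite G] [Finite Ω] [X.Normal] in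
theorem X_perf : ⁅X, X⁆ = X := by
  rcases IsSimpleGroup.eq_bot_or_eq_top_of_normal (_root_.commutator X) inferInstance with e | e
  · obtain ⟨a, ha, a1, -⟩ := s.fus
    have := commutator_mono hAX hAX (h.perf ha)
    rw [← map_subtype_commutator, e, Subgroup.map_bot] at this
    exact absurd this a1
  · rw [← map_subtype_commutator, e, ← MonoidHom.range_eq_map, range_subtype]

theorem t_not_mem {c : G} (hc : c ∈ Cs B ⊓ Cs (cj t B)) : c * t ∉ X := by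
  intro hX
  have hN : t ∈ Ns (Cs B ⊓ Cs (cj t B)) := cj_eq_self_iff.1 (by
    rw [cj_inf, StdJ4.cj_Cs, StdJ4.cj_Cs, StdJ4.cj_cj_self s.tt, inf_comm])
  have ti := StdJ4.inv_of_sq s.tt
  have od := odd_CE b o h s D m
  have h1 : c * t * (c * t) ∈ Cs B ⊓ Cs (cj t B) := by
    have := mul_mem hc (mem_normalizer_conj hN hc)
    rwa [ti, ← mul_assoc, ← mul_assoc, mul_assoc (c * t)] at this
  obtain ⟨k, hk⟩ := odd_orderOf od h1
  have h2 : (c * t * (c * t)) ^ k * c ∈ Cs B ⊓ Cs (cj t B) := mul_mem (pow_mem h1 k) hc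
  have h3 : (c * t * (c * t)) ^ k * c * t ∈ X := by
    rw [mul_assoc]; exact mul_mem (pow_mem (mul_mem hX hX) k) hX
  have h4 : (c * t * (c * t)) ^ k * c * t * ((c * t * (c * t)) ^ k * c * t) = 1 := by
    have := pow_orderOf_eq_one (c * t * (c * t))
    rw [hk] at this
    rw [← this, mul_assoc _ c t]
    generalize c * t = d
    simp only [← sq, ← pow_mul]
    group
  generalize (c * t * (c * t)) ^ k * c = e at h2 h3 h4
  obtain ⟨n, hn⟩ := exists_root_of_odd (odd_orderOf od h2) 1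
  have h5 : t * e * t⁻¹ = e⁻¹ := by
    rw [ti, eq_inv_iff_mul_eq_one, ← (MulAut.conj e).injective.eq_iff, map_one, MulAut.conj_apply,
      ← h4]
    group
  have h6 : e ^ n * t * (e ^ n)⁻¹ = e * t := by
    have : t * (e ^ n)⁻¹ * t⁻¹ = e ^ n := by rw [← inv_pow, ← conj_pow, ← inv_inv (t * e⁻¹ * t⁻¹),
      show (t * e⁻¹ * t⁻¹)⁻¹ = t * e * t⁻¹ by group, h5, inv_inv]
    rw [show e ^ n * t * (e ^ n)⁻¹ = e ^ n * (t * (e ^ n)⁻¹ * t⁻¹) * t by group, this, ← sq]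
    rw [pow_one] at hn
    rw [hn]
  have tX : t ∈ X := by
    rw [← h6] at h3
    simpa [mul_assoc] using Normal.conj_mem inferInstance _ h3 (e ^ n)⁻¹
  obtain ⟨R, hR, tR⟩ := exists_isSylowIn_ge (Comp.Tw.of_sq s.tt).isPGroup (zpowers_le.2 tX)
  have RM := two_le_MM b o h s D m hR.isPGroup (tR (mem_zpowers t))
  obtain ⟨g, -, -, g2⟩ := Comp.thompson_in (C := Ns B ⊓ Ns (cj t B)) (X_perf h s hAX) hR
    (fun x hx y hy => MM_idx (RM hx) (RM hy)) tX s.tt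
  refine not_norm_cj b o h s D m g⁻¹ ?_ ?_ <;> rw [← StdJ4.cj_Ns, mem_cj_inv]
  exacts [g2.1, g2.2]

theorem up_bound {u : G} (hu : u ∈ X ⊓ C1 t) (h2 : u * u = 1) (h0 : ρ u ∉ Γ0) {R : Subgroup G}
    (hR : R ≤ X ⊓ C1 u) (h3 : IsPGroup 2 R) :
    Nat.card R ≤ 1024 ∧ (u ∉ Ns B → Nat.card R ≤ 256) ∧ (u ∈ Ns B → ρ' u ∉ Γ0) := by
  have ut : Commute u t := StdSz.mem_C1.1 hu.2
  have uM : u ∈ MM B (cj t B) := mem_MM b o h s D m (by
    rw [ut.eq, mul_inv_cancel_right]; exact t_mem_MM s.tt)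
  have tN : t ∈ Ns (X ⊓ C1 u) := Comp.mem_Ns_of fun x hx =>
    ⟨Normal.conj_mem inferInstance _ hx.1 t, StdSz.mem_C1.2
      ((ut.symm.mul_left (StdSz.mem_C1.1 hx.2)).mul_left ut.symm.inv_left)⟩
  obtain ⟨Q, hQ, tQ⟩ := exists_isSylowIn_ge (Comp.Tw.of_sq s.tt).isPGroup
    (le_sup_right : zpowers t ≤ X ⊓ C1 u ⊔ zpowers t)
  have tQ' := tQ (mem_zpowers t)
  have QM := two_le_MM b o h s D m hQ.isPGroup tQ'
  have QC : Q ≤ C1 u := hQ.le.trans (sup_le inf_le_right (zpowers_le.2 (StdSz.mem_C1.2 ut.symm)))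
  have c1 := (hQ.inf_normal_of_le (sup_le le_normalizer (zpowers_le.2 tN)) le_sup_left).card_le h3 hR
  have c2 := eb_two_le (inf_le_left : Q ⊓ (X ⊓ C1 u) ≤ Q) tQ' fun e =>
    t_not_mem b o h s D m hAX (one_mem _) (by rw [one_mul]; exact e.2.1)
  have c3 := eb_card_le_two (Q := Q) (C := Ns B ⊓ Ns (cj t B)) fun x hx y hy =>
    MM_idx (QM hx) (QM hy)
  have c4 : Nat.card R ≤ Nat.card ↥(Q ⊓ (Ns B ⊓ Ns (cj t B))) := by omega
  have p0 : IsPGroup 2 ↥(Q ⊓ (Ns B ⊓ Ns (cj t B))) := hQ.isPGroup.to_le inf_le_left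
  have l1 : Q ⊓ (Ns B ⊓ Ns (cj t B)) ≤ Ns B := inf_le_right.trans inf_le_left
  have l2 : Q ⊓ (Ns B ⊓ Ns (cj t B)) ≤ Ns (cj t B) := inf_le_right.trans inf_le_right
  have l3 : Q ⊓ (Ns B ⊓ Ns (cj t B)) ≤ C1 u := inf_le_left.trans QC
  generalize Q ⊓ (Ns B ⊓ Ns (cj t B)) = Q0 at c4 p0 l1 l2 l3
  have bot : ∀ {Y : Subgroup G}, Y ≤ Q0 → Y ≤ Cs B ⊓ Cs (cj t B) → Nat.card Y = 1 := fun y1 y2 =>
    card_eq_one.2 (eq_bot_iff.2 ((le_inf y1 y2).trans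
      (inf_eq_bot_of_odd p0 (odd_CE b o h s D m)).le))
  have k1 : u ∉ Ns B → Nat.card R ≤ 256 := fun hn => by
    have e := ((MM_iff.1 uM).resolve_left fun e => hn (cj_eq_self_iff.1 e.1)).1
    have := m.card_img l1
    rw [bot inf_le_left fun x hx => ⟨hx.2, by
      rw [← e, ← StdJ4.cj_Cs]
      refine mem_cj.2 ?_
      rw [mul_assoc, (StdSz.mem_C1.1 (l3 hx.1)).eq, inv_mul_cancel_left]
      exact hx.2⟩, one_mul] at this
    exact c4.trans (this ▸ b.two_le (m.img_le _) (m.two_img p0))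
  have k2 : u ∈ Ns B → ρ' u ∉ Γ0 := fun hn e => by
    obtain ⟨x, hx, e1⟩ := (m.inner hn).1 e
    refine h0 ((h.inner (s.cN hu.2)).2 ⟨_, D.diag x hx, StdSz.mem_Cs.2 fun a ha => ?_⟩)
    obtain ⟨y, hy, rfl⟩ := D.onto a ha
    have cc : ∀ p ∈ B, ∀ q ∈ B, Commute p (t * q * t⁻¹) := fun p hp q hq =>
      StdSz.mem_Cs.1 (D.comm hp) _ (conj_mem_cj.2 hq)
    have e2 : Commute (x⁻¹ * u) y := StdSz.mem_Cs.1 e1 y hy
    have e3 : Commute ((t * x * t⁻¹)⁻¹ * u) (t * y * t⁻¹) := by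
      have := e2.map (MulAut.conj t)
      simp only [MulAut.conj_apply] at this
      rwa [show t * (x⁻¹ * u) * t⁻¹ = (t * x * t⁻¹)⁻¹ * (t * u * t⁻¹) by group, ← ut.eq,
        mul_inv_cancel_right] at this
    refine Commute.mul_right ?_ ?_
    · rw [mul_inv_rev, mul_assoc]
      exact (cc y hy x hx).symm.inv_left.mul_left e2
    · rw [(cc x hx x hx).eq, mul_inv_rev, mul_assoc]
      exact (cc x hx y hy).inv_left.mul_left e3
  refine ⟨?_, k1, k2⟩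
  by_cases hn : u ∈ Ns B
  swap
  · exact (k1 hn).trans (by norm_num)
  have hn2 : u ∈ Ns (cj t B) := cj_eq_self_iff.1 (by
    rw [cj_cj, ut.eq, cj_mul, cj_eq_self_iff.2 hn])
  have d1 := m.img_up o hn h2 (k2 hn) l1 l3 p0
  have d2 := (m.cjg t).img_up o hn2 h2 (by
    rw [mul_assoc, ut.eq, inv_mul_cancel_left]; exact k2 hn) (R := Q0 ⊓ Cs B)
    (inf_le_left.trans l2) (inf_le_left.trans l3) (p0.to_le inf_le_left)
  rw [bot (inf_le_left.trans inf_le_left) (inf_le_inf inf_le_right le_rfl)] at d2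
  omega

end EndB

end Cfsg.Lib.StdW
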