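import Cfsg.Agent.SporChar.WFormAct
import Cfsg.Agent.StdW.Raw

/-! Formulas for the finite checks on the model of a standard subgroup. -/

set_option autoImplicit false
set_option maxRecDepth 100000
set_option linter.unusedSimpArgs false

namespace Cfsg.Lib.StdW

open Cfsg.Lib.Spor Cfsg.Lib.Spor.Bulk Cfsg.Lib.Spor.WF

variable {Ω : Type*} [Group Ω] {S : ℕ → Subgroup Ω} {g : ℕ → Ω}

/-- a finite check -/
def fInv : Fm :=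
  (.and (.eq [8,8] []) (.and (.eq [9,9] []) (.and (.eq [10,10] []) (.and (.eq [11,11] []) (.and
  (.eq [12,12] []) (.and (.eq [13,13] []) (.and (.eq [14,14] []) (.and (.eq [15,15] []) (.and (.eq
  [24,24] []) (.and (.not (.eq [9] [])) (.and (.eq [10,9] [9,10]) (.and (.eq [11,9] [9,11]) (.and
  (.eq [12,9] [9,12]) (.and (.eq [13,9] [9,13]) (.and (.eq [14,9] [9,14]) (.and (.eq [15,9]
  [9,15]) (.and (.not (.eq [21,9] [9,21])) (.and (.eq [13,11,13,11] [9]) (.eq [9,25]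
  [25,15])))))))))))))))))))

theorem fInv_sem (h : fInv.sem S g) :
    g 8 * g 8 = 1 ∧ g 9 * g 9 = 1 ∧ g 10 * g 10 = 1 ∧ g 11 * g 11 = 1 ∧ g 12 * g 12 = 1 ∧ g 13 * g
    13 = 1 ∧ g 14 * g 14 = 1 ∧ g 15 * g 15 = 1 ∧ g 24 * g 24 = 1 ∧ g 9 ≠ 1 ∧ g 9 * g 10 = g 10 * g 9
    ∧ g 9 * g 11 = g 11 * g 9 ∧ g 9 * g 12 = g 12 * g 9 ∧ g 9 * g 13 = g 13 * g 9 ∧ g 9 * g 14 = g
    14 * g 9 ∧ g 9 * g 15 = g 15 * g 9 ∧ g 9 * g 21 ≠ g 21 * g 9 ∧ g 11 * g 13 * g 11 * g 13 = g 9 ∧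
    g 25 * g 9 = g 15 * g 25 := by
  simp only [fInv, Fm.sem, wv_cons, wv_nil, one_mul, upd_apply, Nat.reduceEqDiff, ↓reduceIte] at h
  exact h

/-- a finite check -/
def fV : Fm :=
  (.and (.all 0 60 (.eq [60,60] [])) (.and (.all 1 60 (.eq [60,60] [])) (.and (.all 0 60 (.imp
  (.eq [13,60] [60,13]) (.imp (.eq [14,60] [60,14]) (.imp (.eq [15,60] [60,15]) (.or (.eq [60] [])
  (.eq [60] [9])))))) (.and (.all 1 60 (.imp (.eq [11,60] [60,11]) (.imp (.eq [12,60] [60,12])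
  (.imp (.eq [15,60] [60,15]) (.or (.eq [60] []) (.eq [60] [9])))))) (.and (.all 0 60 (.ex 0 61
  (.eq [60,20] [20,61]))) (.and (.all 0 60 (.ex 0 61 (.eq [60,21] [21,61]))) (.and (.all 1 60 (.ex
  1 61 (.eq [60,22] [22,61]))) (.and (.all 1 60 (.ex 1 61 (.eq [60,23] [23,61]))) (.and (.all 0 60
  (.imp (.not (.eq [60] [])) (.ex 6 61 (.eq [9,61] [61,60])))) (.all 1 60 (.imp (.not (.eq [60]
  [])) (.ex 7 61 (.eq [9,61] [61,60])))))))))))))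

theorem fV_sem (h : fV.sem S g) :
    (∀ A ∈ S 0, A * A = 1) ∧ (∀ A ∈ S 1, A * A = 1) ∧ (∀ A ∈ S 0, A * g 13 = g 13 * A → A * g 14 = g
    14 * A → A * g 15 = g 15 * A → (A = 1 ∨ A = g 9)) ∧ (∀ A ∈ S 1, A * g 11 = g 11 * A → A * g 12 =
    g 12 * A → A * g 15 = g 15 * A → (A = 1 ∨ A = g 9)) ∧ (∀ A ∈ S 0, ∃ B ∈ S 0, g 20 * A = B * g
    20) ∧ (∀ A ∈ S 0, ∃ B ∈ S 0, g 21 * A = B * g 21) ∧ (∀ A ∈ S 1, ∃ B ∈ S 1, g 22 * A = B * g 22)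
    ∧ (∀ A ∈ S 1, ∃ B ∈ S 1, g 23 * A = B * g 23) ∧ (∀ A ∈ S 0, A ≠ 1 → (∃ B ∈ S 6, B * g 9 = A *
    B)) ∧ (∀ A ∈ S 1, A ≠ 1 → (∃ B ∈ S 7, B * g 9 = A * B)) := by
  simp only [fV, Fm.sem, wv_cons, wv_nil, one_mul, upd_apply, Nat.reduceEqDiff, ↓reduceIte] at h
  exact h

/-- a finite check -/
def fR : Fm :=
  (.and (.all 3 60 (.imp (.eq [60,60] []) (.or (.ex 2 61 (.eq [60] [61])) (.ex 3 61 (.or (.eq
  [61,60] [8,61]) (.eq [61,60] [24,8,24,61])))))) (.all 2 60 (.imp (.eq [60,60] []) (.or (.ex 0 61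
  (.eq [60] [61])) (.or (.ex 1 61 (.eq [60] [61])) (.ex 2 61 (.eq [61,60] [15,61])))))))

theorem fR_sem (h : fR.sem S g) :
    (∀ A ∈ S 3, A * A = 1 → ((∃ B ∈ S 2, A = B) ∨ (∃ B ∈ S 3, A * B = B * g 8 ∨ A * B = B * g 24 * g
    8 * g 24))) ∧ (∀ A ∈ S 2, A * A = 1 → ((∃ B ∈ S 0, A = B) ∨ (∃ B ∈ S 1, A = B) ∨ (∃ B ∈ S 2, A *
    B = B * g 15))) := by
  simp only [fR, Fm.sem, wv_cons, wv_nil, one_mul, upd_apply, Nat.reduceEqDiff, ↓reduceIte] at h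
  exact h

/-- a finite check -/
def fQ : Fm :=
  (.and (.ex 2 61 (.eq [34] [61])) (.and (.ex 2 61 (.eq [35] [61])) (.and (.ex 2 61 (.eq [36]
  [61])) (.and (.ex 2 61 (.eq [37] [61])) (.and (.eq [8,34] [34,8]) (.and (.eq [8,35] [35,8])
  (.and (.eq [8,36] [36,8]) (.and (.eq [8,37] [37,8]) (.and (.ex 2 61 (.eq [38] [61])) (.and (.ex
  2 61 (.eq [39] [61])) (.and (.eq [38,38] []) (.and (.eq [39,39] []) (.and (.not (.eq [38] []))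
  (.and (.not (.eq [39] [])) (.and (.not (.eq [38] [39])) (.and (.eq [39,38] [38,39]) (.and (.eq
  [8,38] [38,8]) (.eq [8,39] [39,8]))))))))))))))))))

theorem fQ_sem (h : fQ.sem S g) :
    (∃ B ∈ S 2, g 34 = B) ∧ (∃ B ∈ S 2, g 35 = B) ∧ (∃ B ∈ S 2, g 36 = B) ∧ (∃ B ∈ S 2, g 37 = B) ∧
    g 34 * g 8 = g 8 * g 34 ∧ g 35 * g 8 = g 8 * g 35 ∧ g 36 * g 8 = g 8 * g 36 ∧ g 37 * g 8 = g 8 *
    g 37 ∧ (∃ B ∈ S 2, g 38 = B) ∧ (∃ B ∈ S 2, g 39 = B) ∧ g 38 * g 38 = 1 ∧ g 39 * g 39 = 1 ∧ g 38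
    ≠ 1 ∧ g 39 ≠ 1 ∧ g 38 ≠ g 39 ∧ g 38 * g 39 = g 39 * g 38 ∧ g 38 * g 8 = g 8 * g 38 ∧ g 39 * g 8
    = g 8 * g 39 := by
  simp only [fQ, Fm.sem, wv_cons, wv_nil, one_mul, upd_apply, Nat.reduceEqDiff, ↓reduceIte] at h
  exact h

/-- a finite check -/
def fP : Fm :=
  (.and (.all 0 60 (.ex 0 61 (.eq [60,13] [13,61]))) (.and (.all 0 60 (.ex 0 61 (.eq [60,14]
  [14,61]))) (.and (.all 0 60 (.ex 0 61 (.eq [60,15] [15,61]))) (.and (.all 0 60 (.ex 0 61 (.eq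
  [60,16] [16,61]))) (.and (.all 0 60 (.ex 0 61 (.eq [60,17] [17,61]))) (.and (.eq [9,16] [16,9])
  (.and (.eq [9,17] [17,9]) (.and (.all 0 60 (.imp (.or (.eq [60,17] [17,60]) (.eq [60,17]
  [17,60,9])) (.imp (.or (.eq [60,16] [16,60]) (.eq [60,16] [16,60,9])) (.or (.eq [60] []) (.eq
  [60] [9]))))) (.and (.eq [16,16] []) (.and (.eq [17,17,17] []) (.and (.eq
  [17,16,17,16,17,16,17,16,17,16,17,16,17,16] []) (.and (.eq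
  [17,17,16,17,16,17,17,16,17,16,17,17,16,17,16,17,17,16,17,16] []) (.and (.all 0 60 (.all 0 61
  (.bind 65 [16,60] (.bind 66 [17,61] (.imp (.eq [65,65] []) (.imp (.eq [66,66,66] []) (.bind 62
  [66,65] (.imp (.eq [62,62,62,62,62,62,62] []) (.bind 63 [66,66,65,62] (.imp (.eq [63,63,63,63]
  []) (.ex 0 64 (.and (.eq [64,65] [16,64]) (.eq [64,66] [17,64]))))))))))))) (.and (.ex 0 60 (.ex
  4 61 (.eq [13] [61,60]))) (.and (.ex 0 60 (.ex 4 61 (.eq [14] [61,60]))) (.ex 0 60 (.ex 4 61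
  (.eq [15] [61,60]))))))))))))))))))

theorem fP_sem (h : fP.sem S g) :
    (∀ A ∈ S 0, ∃ B ∈ S 0, g 13 * A = B * g 13) ∧ (∀ A ∈ S 0, ∃ B ∈ S 0, g 14 * A = B * g 14) ∧ (∀ A
    ∈ S 0, ∃ B ∈ S 0, g 15 * A = B * g 15) ∧ (∀ A ∈ S 0, ∃ B ∈ S 0, g 16 * A = B * g 16) ∧ (∀ A ∈ S
    0, ∃ B ∈ S 0, g 17 * A = B * g 17) ∧ g 16 * g 9 = g 9 * g 16 ∧ g 17 * g 9 = g 9 * g 17 ∧ (∀ A ∈
    S 0, (g 17 * A = A * g 17 ∨ g 17 * A = g 9 * A * g 17) → (g 16 * A = A * g 16 ∨ g 16 * A = g 9 *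
    A * g 16) → (A = 1 ∨ A = g 9)) ∧ g 16 * g 16 = 1 ∧ g 17 * g 17 * g 17 = 1 ∧ g 16 * g 17 * g 16 *
    g 17 * g 16 * g 17 * g 16 * g 17 * g 16 * g 17 * g 16 * g 17 * g 16 * g 17 = 1 ∧ g 16 * g 17 * g
    16 * g 17 * g 17 * g 16 * g 17 * g 16 * g 17 * g 17 * g 16 * g 17 * g 16 * g 17 * g 17 * g 16 *
    g 17 * g 16 * g 17 * g 17 = 1 ∧ (∀ A ∈ S 0, ∀ B ∈ S 0, (A * g 16) * (A * g 16) = 1 → (B * g 17)
    * (B * g 17) * (B * g 17) = 1 → (((A * g 16) * (B * g 17)) * ((A * g 16) * (B * g 17)) * ((A * g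
    16) * (B * g 17)) * ((A * g 16) * (B * g 17)) * ((A * g 16) * (B * g 17)) * ((A * g 16) * (B * g
    17)) * ((A * g 16) * (B * g 17)) = 1 → ((((A * g 16) * (B * g 17)) * (A * g 16) * (B * g 17) *
    (B * g 17)) * (((A * g 16) * (B * g 17)) * (A * g 16) * (B * g 17) * (B * g 17)) * (((A * g 16)
    * (B * g 17)) * (A * g 16) * (B * g 17) * (B * g 17)) * (((A * g 16) * (B * g 17)) * (A * g 16)
    * (B * g 17) * (B * g 17)) = 1 → (∃ U ∈ S 0, (A * g 16) * U = U * g 16 ∧ (B * g 17) * U = U * g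
    17)))) ∧ (∃ A ∈ S 0, ∃ B ∈ S 4, g 13 = A * B) ∧ (∃ A ∈ S 0, ∃ B ∈ S 4, g 14 = A * B) ∧ (∃ A ∈ S
    0, ∃ B ∈ S 4, g 15 = A * B) := by
  simp only [fP, Fm.sem, wv_cons, wv_nil, one_mul, upd_apply, Nat.reduceEqDiff, ↓reduceIte] at h
  exact h

/-- a finite check -/
def fP2 : Fm :=
  (.and (.all 1 60 (.ex 1 61 (.eq [60,11] [11,61]))) (.and (.all 1 60 (.ex 1 61 (.eq [60,12]
  [12,61]))) (.and (.all 1 60 (.ex 1 61 (.eq [60,15] [15,61]))) (.and (.all 1 60 (.ex 1 61 (.eq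
  [60,18] [18,61]))) (.and (.all 1 60 (.ex 1 61 (.eq [60,19] [19,61]))) (.and (.eq [9,18] [18,9])
  (.and (.eq [9,19] [19,9]) (.and (.all 1 60 (.imp (.or (.eq [60,19] [19,60]) (.eq [60,19]
  [19,60,9])) (.imp (.or (.eq [60,18] [18,60]) (.eq [60,18] [18,60,9])) (.or (.eq [60] []) (.eq
  [60] [9]))))) (.and (.eq [18,18] []) (.and (.eq [19,19,19] []) (.and (.eq
  [19,18,19,18,19,18,19,18,19,18,19,18,19,18] []) (.and (.eq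
  [19,19,18,19,18,19,19,18,19,18,19,19,18,19,18,19,19,18,19,18] []) (.and (.all 1 60 (.all 1 61
  (.bind 65 [18,60] (.bind 66 [19,61] (.imp (.eq [65,65] []) (.imp (.eq [66,66,66] []) (.bind 62
  [66,65] (.imp (.eq [62,62,62,62,62,62,62] []) (.bind 63 [66,66,65,62] (.imp (.eq [63,63,63,63]
  []) (.ex 1 64 (.and (.eq [64,65] [18,64]) (.eq [64,66] [19,64]))))))))))))) (.and (.ex 1 60 (.ex
  5 61 (.eq [11] [61,60]))) (.and (.ex 1 60 (.ex 5 61 (.eq [12] [61,60]))) (.ex 1 60 (.ex 5 61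
  (.eq [15] [61,60]))))))))))))))))))

theorem fP2_sem (h : fP2.sem S g) :
    (∀ A ∈ S 1, ∃ B ∈ S 1, g 11 * A = B * g 11) ∧ (∀ A ∈ S 1, ∃ B ∈ S 1, g 12 * A = B * g 12) ∧ (∀ A
    ∈ S 1, ∃ B ∈ S 1, g 15 * A = B * g 15) ∧ (∀ A ∈ S 1, ∃ B ∈ S 1, g 18 * A = B * g 18) ∧ (∀ A ∈ S
    1, ∃ B ∈ S 1, g 19 * A = B * g 19) ∧ g 18 * g 9 = g 9 * g 18 ∧ g 19 * g 9 = g 9 * g 19 ∧ (∀ A ∈
    S 1, (g 19 * A = A * g 19 ∨ g 19 * A = g 9 * A * g 19) → (g 18 * A = A * g 18 ∨ g 18 * A = g 9 *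
    A * g 18) → (A = 1 ∨ A = g 9)) ∧ g 18 * g 18 = 1 ∧ g 19 * g 19 * g 19 = 1 ∧ g 18 * g 19 * g 18 *
    g 19 * g 18 * g 19 * g 18 * g 19 * g 18 * g 19 * g 18 * g 19 * g 18 * g 19 = 1 ∧ g 18 * g 19 * g
    18 * g 19 * g 19 * g 18 * g 19 * g 18 * g 19 * g 19 * g 18 * g 19 * g 18 * g 19 * g 19 * g 18 *
    g 19 * g 18 * g 19 * g 19 = 1 ∧ (∀ A ∈ S 1, ∀ B ∈ S 1, (A * g 18) * (A * g 18) = 1 → (B * g 19)
    * (B * g 19) * (B * g 19) = 1 → (((A * g 18) * (B * g 19)) * ((A * g 18) * (B * g 19)) * ((A * g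
    18) * (B * g 19)) * ((A * g 18) * (B * g 19)) * ((A * g 18) * (B * g 19)) * ((A * g 18) * (B * g
    19)) * ((A * g 18) * (B * g 19)) = 1 → ((((A * g 18) * (B * g 19)) * (A * g 18) * (B * g 19) *
    (B * g 19)) * (((A * g 18) * (B * g 19)) * (A * g 18) * (B * g 19) * (B * g 19)) * (((A * g 18)
    * (B * g 19)) * (A * g 18) * (B * g 19) * (B * g 19)) * (((A * g 18) * (B * g 19)) * (A * g 18)
    * (B * g 19) * (B * g 19)) = 1 → (∃ U ∈ S 1, (A * g 18) * U = U * g 18 ∧ (B * g 19) * U = U * g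
    19)))) ∧ (∃ A ∈ S 1, ∃ B ∈ S 5, g 11 = A * B) ∧ (∃ A ∈ S 1, ∃ B ∈ S 5, g 12 = A * B) ∧ (∃ A ∈ S
    1, ∃ B ∈ S 5, g 15 = A * B) := by
  simp only [fP2, Fm.sem, wv_cons, wv_nil, one_mul, upd_apply, Nat.reduceEqDiff, ↓reduceIte] at h
  exact h

/-- a finite check -/
def fS : Fm :=
  (.and (.not (.eq [17,16] [])) (.and (.not (.eq [16] [])) (.and (.eq [16,33] [33,16]) (.and (.eq
  [9,18] [18,9]) (.eq [9,19] [19,9])))))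

theorem fS_sem (h : fS.sem S g) :
    g 16 * g 17 ≠ 1 ∧ g 16 ≠ 1 ∧ g 33 * g 16 = g 16 * g 33 ∧ g 18 * g 9 = g 9 * g 18 ∧ g 19 * g 9 =
    g 9 * g 19 := by
  simp only [fS, Fm.sem, wv_cons, wv_nil, one_mul, upd_apply, Nat.reduceEqDiff, ↓reduceIte] at h
  exact h

/-- a finite check -/
def fD : Fm :=
  (.and (.not (.eq [10] [])) (.and (.not (.eq [10] [9])) (.and (.eq [13,10] [10,13]) (.and (.eq
  [14,10] [10,14]) (.and (.all 0 60 (.imp (.eq [13,60] [60,13]) (.or (.eq [60] []) (.or (.eq [60]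
  [9]) (.or (.eq [60] [10]) (.eq [60] [10,9])))))) (.and (.all 0 60 (.imp (.not (.eq [60] []))
  (.imp (.not (.eq [60] [9])) (.ex 4 61 (.eq [10,61] [61,60]))))) (.and (.not (.ex 0 61 (.eq [13]
  [61]))) (.and (.all 1 60 (.imp (.eq [27,60] [60,27]) (.or (.eq [60] []) (.or (.eq [60] [9]) (.or
  (.eq [60] [13]) (.eq [60] [13,9])))))) (.and (.eq [9,27] [27,9]) (.and (.eq [13,27] [27,13])
  (.and (.eq [27,11] [11,27]) (.and (.eq [9,30] [30,13,9]) (.and (.eq [13,30] [30,13]) (.and (.eq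
  [9,31] [31,13]) (.and (.eq [13,31] [31,13,9]) (.and (.all 0 60 (.ex 0 61 (.eq [60,26] [26,61])))
  (.and (.all 0 60 (.ex 0 61 (.eq [60,27] [27,61]))) (.and (.all 0 60 (.ex 0 61 (.eq [60,28]
  [28,61]))) (.and (.all 0 60 (.ex 0 61 (.eq [60,29] [29,61]))) (.and (.eq [13,26] [26,13]) (.and
  (.eq [9,26] [26,10]) (.and (.eq [11,26] [26,12]) (.and (.all 0 60 (.imp (.not (.eq [60] []))
  (.imp (.eq [13,60] [60,13]) (.ex 9 61 (.eq [9,61] [61,60]))))) (.and (.eq [13,12] [12,13,10])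
  (.and (.all 0 60 (.imp (.eq [13,60] [60,13]) (.imp (.eq [27,60] [60,27]) (.or (.eq [60] []) (.eq
  [60] [9]))))) (.and (.all 0 60 (.ex 0 61 (.and (.eq [13,61] [61,13]) (.or (.eq [60] [61]) (.or
  (.eq [60] [11,61]) (.or (.eq [60] [12,61]) (.eq [60] [12,11,61]))))))) (.and (.eq [13,28]
  [28,27]) (.and (.eq [13,29] [29,27,13]) (.and (.eq [9,32] [32,13]) (.and (.eq [13,32] [32,27])
  (.and (.eq [27,27] []) (.and (.ex 0 60 (.not (.eq [13,27,60,27,60] [27,60,27,60,13]))) (.and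
  (.eq [40,40] []) (.and (.eq [41,41] []) (.and (.eq [42,42] []) (.and (.eq [43,43] []) (.and
  (.not (.eq [40] [])) (.and (.not (.eq [41] [])) (.and (.not (.eq [42] [])) (.not (.eq [43]
  [])))))))))))))))))))))))))))))))))))))))))

theorem fD_sem (h : fD.sem S g) :
    g 10 ≠ 1 ∧ g 10 ≠ g 9 ∧ g 10 * g 13 = g 13 * g 10 ∧ g 10 * g 14 = g 14 * g 10 ∧ (∀ A ∈ S 0, A *
    g 13 = g 13 * A → (A = 1 ∨ A = g 9 ∨ A = g 10 ∨ A = g 9 * g 10)) ∧ (∀ A ∈ S 0, A ≠ 1 → A ≠ g 9 →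
    (∃ B ∈ S 4, B * g 10 = A * B)) ∧ ¬ (∃ B ∈ S 0, g 13 = B) ∧ (∀ A ∈ S 1, A * g 27 = g 27 * A → (A
    = 1 ∨ A = g 9 ∨ A = g 13 ∨ A = g 9 * g 13)) ∧ g 27 * g 9 = g 9 * g 27 ∧ g 27 * g 13 = g 13 * g
    27 ∧ g 11 * g 27 = g 27 * g 11 ∧ g 30 * g 9 = g 9 * g 13 * g 30 ∧ g 30 * g 13 = g 13 * g 30 ∧ g
    31 * g 9 = g 13 * g 31 ∧ g 31 * g 13 = g 9 * g 13 * g 31 ∧ (∀ A ∈ S 0, ∃ B ∈ S 0, g 26 * A = B *
    g 26) ∧ (∀ A ∈ S 0, ∃ B ∈ S 0, g 27 * A = B * g 27) ∧ (∀ A ∈ S 0, ∃ B ∈ S 0, g 28 * A = B * g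
    28) ∧ (∀ A ∈ S 0, ∃ B ∈ S 0, g 29 * A = B * g 29) ∧ g 26 * g 13 = g 13 * g 26 ∧ g 26 * g 9 = g
    10 * g 26 ∧ g 26 * g 11 = g 12 * g 26 ∧ (∀ A ∈ S 0, A ≠ 1 → A * g 13 = g 13 * A → (∃ B ∈ S 9, B
    * g 9 = A * B)) ∧ g 12 * g 13 = g 10 * g 13 * g 12 ∧ (∀ A ∈ S 0, A * g 13 = g 13 * A → A * g 27
    = g 27 * A → (A = 1 ∨ A = g 9)) ∧ (∀ A ∈ S 0, ∃ B ∈ S 0, B * g 13 = g 13 * B ∧ (A = B ∨ A = B *
    g 11 ∨ A = B * g 12 ∨ A = B * g 11 * g 12)) ∧ g 28 * g 13 = g 27 * g 28 ∧ g 29 * g 13 = g 13 * g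
    27 * g 29 ∧ g 32 * g 9 = g 13 * g 32 ∧ g 32 * g 13 = g 27 * g 32 ∧ g 27 * g 27 = 1 ∧ (∃ A ∈ S 0,
    A * g 27 * A * g 27 * g 13 ≠ g 13 * A * g 27 * A * g 27) ∧ g 40 * g 40 = 1 ∧ g 41 * g 41 = 1 ∧ g
    42 * g 42 = 1 ∧ g 43 * g 43 = 1 ∧ g 40 ≠ 1 ∧ g 41 ≠ 1 ∧ g 42 ≠ 1 ∧ g 43 ≠ 1 := by
  simp only [fD, Fm.sem, wv_cons, wv_nil, one_mul, upd_apply, Nat.reduceEqDiff, ↓reduceIte] at h
  exact h

/-- the elements of square one of subgroup `i` commuting with `y` are in the list `L` -/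
def fSm (i : ℕ) (y : List ℕ) (L : List (List ℕ)) : Fm :=
  .bind 61 y (.all i 60 (.imp (.eq [60, 60] []) (.imp (.eq [61, 60] [60, 61]) (orL L fun w => .eq [60] w))))

/-- the pairs of `D` are conjugate into subgroup 0 or to the letter 13 -/
def fRel (D : List (ℕ × ℕ × ℕ)) : Fm :=
  andL D fun d => .and (.ex 0 60 (.eq [d.1, d.2.2] [d.2.2, 60]))
    (.or (.ex 0 60 (.eq [d.2.1, d.2.2] [d.2.2, 60])) (.eq [d.2.1, d.2.2] [d.2.2, 13]))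

/-- the generating words of the subgroups: `V, V', T, S, L, L', F, F', Q, ⟨θ⟩` -/
def WW : List (List (List ℕ)) :=
  [[[9], [10], [11], [12]], [[9], [10], [13], [14]], [[9], [10], [11], [12], [13], [14], [15]],
    [[9], [10], [11], [12], [13], [14], [15], [8]], [[16], [17]], [[18], [19]], [[20], [21]], [[22], [23]],
    [[34], [35], [36], [37]], [[26]]]

/-- the subgroups -/
def SS (g : ℕ → Ω) (i : ℕ) : Subgroup Ω := sub g (WW.getD i [])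

open Subgroup Cfsg.Lib.Gold Cfsg.Lib.Trans Cfsg.Lib.StdSz in
/-- all finite checks on a model -/
structure Hyp (g : ℕ → Ω) (Γ Γ0 : Subgroup Ω) (L0 L1 L2 : List (List ℕ)) (D : List (ℕ × ℕ × ℕ)) :
    Prop where
  mem : ∀ l, l ≠ 8 → g l ∈ Γ0
  sup : Γ = zpowers (g 8) ⊔ Γ0
  σn : g 8 ∈ Ns Γ0
  simple : IsSimpleGroup Γ0
  aut : Nat.card (MulAut Γ0) ≤ Nat.card Γ
  card0 : ¬ 256 ∣ Nat.card Γ0
  card7 : ¬ 49 ∣ Nat.card Γ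
  c0 : Nat.card (SS g 0) = 16
  c1 : Nat.card (SS g 1) = 16
  c2 : Nat.card (SS g 2) = 128
  c3 : Nat.card (SS g 3) = 128 ∨ Nat.card (SS g 3) = 256
  c8 : Nat.card (SS g 8) = 16
  cV : Γ ⊓ Cs (SS g 0) ≤ SS g 0
  cV' : Γ ⊓ Cs (SS g 1) ≤ SS g 1
  cf : ¬ 4 ∣ Nat.card ↥(Γ ⊓ C1 (g 16 * g 17))
  cz : Γ0 ⊓ C1 (g 9) ≤ sub g [[9], [10], [11], [12], [13], [14], [16], [17], [18], [19]]
  gen : Γ0 ≤ sub g [[9], [10], [11], [12], [13], [14], [16], [17], [18], [19], [33]]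
  genI : Γ0 ≤ sub g [[40], [41], [42], [43]]
  hInv : fInv.sem (SS g) g
  hV : fV.sem (SS g) g
  hR : fR.sem (SS g) g
  hQ : fQ.sem (SS g) g
  hP : fP.sem (SS g) g
  hP2 : fP2.sem (SS g) g ∨ (g 18 = g 16 ∧ g 19 = g 17)
  hS : fS.sem (SS g) g
  hD : fD.sem (SS g) g
  out : g 8 = 1 ∨ ((fSm 3 [8] L0).sem (SS g) g ∧ (fSm 3 [24, 8, 24] L1).sem (SS g) g ∧
    ¬ 64 ∣ Nat.card ↥(Γ ⊓ C1 (g 8)))
  sm : (fSm 2 [15] L2).sem (SS g) g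
  len : ∀ L ∈ [L0, L1, L2], L.length < 16 ∧ ∀ w ∈ L, ∀ l ∈ w, l < 60
  hRel : (fRel D).sem (SS g) g
  DI : ∀ d ∈ D, d.1 < 60 ∧ d.2.1 < 60 ∧ d.2.2 < 60 ∧ d.2.2 ≠ 8
  cov : ∀ i ∈ [40, 41, 42, 43], ∀ j ∈ [40, 41, 42, 43], ∃ d ∈ D,
    (d.1 = i ∧ d.2.1 = j) ∨ (d.1 = j ∧ d.2.1 = i)

end Cfsg.Lib.StdW
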